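import Cfsg.Agent.Lib.Helper35.M11P11.Perm
import Cfsg.Agent.Lib.Helper35.Simple3

namespace Cfsg.Agent.Lib.Helper35.M11POrd.X0

open Cfsg.Agent.Lib.Helper35

set_option maxRecDepth 100000
noncomputable section
noncomputable def tR0 : Nat := 0x163692248
def ot0 (i : Nat) : Nat := Nat.land (Nat.shiftRight tR0 (Nat.mul i 3)) 7
def sl0 : List (PLeaf M11P11.pt) := [⟨[0], (fun i => (M11P11.p0 i)), fun _ => rfl⟩, ⟨[1], (fun i => (M11P11.p1 i)), fun _ => rfl⟩, ⟨[2], (fun i => (M11P11.p2 i)), fun _ => rfl⟩, ⟨[0, 1, 0], (fun i => (M11P11.p0 (M11P11.p1 (M11P11.p0 i)))), fun _ => rfl⟩, ⟨[0, 2, 0], (fun i => (M11P11.p0 (M11P11.p2 (M11P11.p0 i)))), fun _ => rfl⟩, ⟨[1, 0, 1, 0, 2], (fun i => (M11P11.p2 (M11P11.p0 (M11P11.p1 (M11P11.p0 (M11P11.p1 i)))))), fun _ =>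 rfl⟩, ⟨[1, 0, 2, 0, 2], (fun i => (M11P11.p2 (M11P11.p0 (M11P11.p2 (M11P11.p0 (M11P11.p1 i)))))), fun _ => rfl⟩]
noncomputable def fq0 (j : Nat) : Bool := reachChk ot0 6 0 sl0 j
def fm0 (j : Nat) : Bool := markF ot0 6 j
noncomputable def tR1 : Nat := 0x99651484
def ot1 (i : Nat) : Nat := Nat.land (Nat.shiftRight tR1 (Nat.mul i 3)) 7
def sl1 : List (PLeaf M11P11.pt) := [⟨[0, 1, 0], (fun i => (M11P11.p0 (M11P11.p1 (M11P11.p0 i)))), fun _ => rfl⟩, ⟨[0, 2, 0], (fun i => (M11P11.p0 (M11P11.p2 (M11P11.p0 i)))), fun _ => rfl⟩, ⟨[1, 0, 1, 0, 2], (fun i => (M11P11.p2 (M11P11.p0 (M11P11.p1 (M11P11.p0 (M11P11.p1 i)))))), fun _ => rfl⟩, ⟨[1, 0, 2, 0, 2], (fun i => (M11P11.p2 (M11P11.p0 (M11P11.p2 (M11P11.p0 (M11P11.p1 i)))))), fun _ => rfl⟩, ⟨[1, 0, 1, 0, 2, 0,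 2, 0], (fun i => (M11P11.p0 (M11P11.p2 (M11P11.p0 (M11P11.p2 (M11P11.p0 (M11P11.p1 (M11P11.p0 (M11P11.p1 i))))))))), fun _ => rfl⟩, ⟨[0, 1, 0, 1, 0, 2, 0, 2], (fun i => (M11P11.p2 (M11P11.p0 (M11P11.p2 (M11P11.p0 (M11P11.p1 (M11P11.p0 (M11P11.p1 (M11P11.p0 i))))))))), fun _ => rfl⟩, ⟨[0, 2, 0, 1, 0, 2, 0, 2, 0, 2, 0, 0, 2, 0], (fun i => (M11P11.p0 (M11P11.p2 (M11P11.p0 (M11P11.p0 (M11P11.p2 (M11P11.p0 (M11P11.p2 (M11P11.p0 (M11P11.p2 (M11P11.p0 (M11P11.p1 (M11P11.p0 (M11P11.p2 (M11P11.p0 i))))))))))))))), fun _ => rfl⟩, ⟨[0, 1, 0, 0, 1, 0, 1, 0, 1, 0, 2, 0, 1, 0], (fun i => (M11P11.p0 (M11P11.p1 (M11P11.p0 (M11P11.p2 (M11P11.p0 (M11P11.p1 (M11P11.p0 (M11P11.p1 (M11P11.p0 (M11P11.p1 (M11P11.p0 (M11P11.p0 (M11P11.p1 (M11P11.p0 i))))))))))))))), fun _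 => rfl⟩, ⟨[1, 0, 2, 0, 2, 0, 2, 0, 1, 0, 2, 0, 2, 0, 1, 0], (fun i => (M11P11.p0 (M11P11.p1 (M11P11.p0 (M11P11.p2 (M11P11.p0 (M11P11.p2 (M11P11.p0 (M11P11.p1 (M11P11.p0 (M11P11.p2 (M11P11.p0 (M11P11.p2 (M11P11.p0 (M11P11.p2 (M11P11.p0 (M11P11.p1 i))))))))))))))))), fun _ => rfl⟩, ⟨[0, 2, 0, 1, 0, 1, 0, 2, 0, 1, 0, 1, 0, 1, 0, 2], (fun i => (M11P11.p2 (M11P11.p0 (M11P11.p1 (M11P11.p0 (M11P11.p1 (M11P11.p0 (M11P11.p1 (M11P11.p0 (M11P11.p2 (M11P11.p0 (M11P11.p1 (M11P11.p0 (M11P11.p1 (M11P11.p0 (M11P11.p2 (M11P11.p0 i))))))))))))))))), fun _ => rfl⟩]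
noncomputable def fq1 (j : Nat) : Bool := reachChk ot1 4 1 sl1 j
def fm1 (j : Nat) : Bool := markF ot1 4 j
noncomputable def tR2 : Nat := 0x52459224
def ot2 (i : Nat) : Nat := Nat.land (Nat.shiftRight tR2 (Nat.mul i 3)) 7
def sl2 : List (PLeaf M11P11.pt) := [⟨[1, 0, 1, 0, 2, 0, 2, 0], (fun i => (M11P11.p0 (M11P11.p2 (M11P11.p0 (M11P11.p2 (M11P11.p0 (M11P11.p1 (M11P11.p0 (M11P11.p1 i))))))))), fun _ => rfl⟩, ⟨[0, 1, 0, 1, 0, 2, 0, 2], (fun i => (M11P11.p2 (M11P11.p0 (M11P11.p2 (M11P11.p0 (M11P11.p1 (M11P11.p0 (M11P11.p1 (M11P11.p0 i))))))))), fun _ => rfl⟩, ⟨[0, 2, 0, 1, 0, 2, 0, 2, 0, 2, 0, 0, 2, 0], (fun i => (M11P11.p0 (M11P11.p2 (M11P11.p0 (M11P11.p0 (M11P11.p2 (M11P11.p0 (M11P11.p2 (M11P11.p0 (M11P11.p2 (M11P11.p0 (M11P11.p1 (M11P11.p0 (M11P11.p2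 (M11P11.p0 i))))))))))))))), fun _ => rfl⟩, ⟨[0, 1, 0, 0, 1, 0, 1, 0, 1, 0, 2, 0, 1, 0], (fun i => (M11P11.p0 (M11P11.p1 (M11P11.p0 (M11P11.p2 (M11P11.p0 (M11P11.p1 (M11P11.p0 (M11P11.p1 (M11P11.p0 (M11P11.p1 (M11P11.p0 (M11P11.p0 (M11P11.p1 (M11P11.p0 i))))))))))))))), fun _ => rfl⟩, ⟨[1, 0, 2, 0, 2, 0, 2, 0, 1, 0, 2, 0, 2, 0, 1, 0], (fun i => (M11P11.p0 (M11P11.p1 (M11P11.p0 (M11P11.p2 (M11P11.p0 (M11P11.p2 (M11P11.p0 (M11P11.p1 (M11P11.p0 (M11P11.p2 (M11P11.p0 (M11P11.p2 (M11P11.p0 (M11P11.p2 (M11P11.p0 (M11P11.p1 i))))))))))))))))), fun _ => rfl⟩, ⟨[0, 2, 0, 1, 0, 1, 0, 2, 0, 1, 0, 1, 0, 1, 0, 2], (fun i => (M11P11.p2 (M11P11.p0 (M11P11.p1 (M11P11.p0 (M11P11.p1 (M11P11.p0 (M11P11.p1 (M11P11.p0 (M11P11.p2 (M11P11.p0 (M11P11.p1 (M11P11.p0 (M11P11.p1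 (M11P11.p0 (M11P11.p2 (M11P11.p0 i))))))))))))))))), fun _ => rfl⟩, ⟨[1, 0, 2, 0, 2, 0, 2, 0, 1, 0, 2, 0, 2, 0, 1, 0, 0, 2, 0, 1, 0, 2, 0, 2, 0, 2, 0, 0, 2, 0], (fun i => (M11P11.p0 (M11P11.p2 (M11P11.p0 (M11P11.p0 (M11P11.p2 (M11P11.p0 (M11P11.p2 (M11P11.p0 (M11P11.p2 (M11P11.p0 (M11P11.p1 (M11P11.p0 (M11P11.p2 (M11P11.p0 (M11P11.p0 (M11P11.p1 (M11P11.p0 (M11P11.p2 (M11P11.p0 (M11P11.p2 (M11P11.p0 (M11P11.p1 (M11P11.p0 (M11P11.p2 (M11P11.p0 (M11P11.p2 (M11P11.p0 (M11P11.p2 (M11P11.p0 (M11P11.p1 i))))))))))))))))))))))))))))))), fun _ => rfl⟩, ⟨[0, 1, 0, 0, 1, 0, 1, 0, 1, 0, 2, 0, 1, 0, 0, 2, 0, 1, 0, 1, 0, 2, 0, 1, 0, 1, 0, 1, 0, 2], (fun i => (M11P11.p2 (M11P11.p0 (M11P11.p1 (M11P11.p0 (M11P11.p1 (M11P11.p0 (M11P11.p1 (M11P11.p0 (M11P11.p2 (M11P11.p0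 (M11P11.p1 (M11P11.p0 (M11P11.p1 (M11P11.p0 (M11P11.p2 (M11P11.p0 (M11P11.p0 (M11P11.p1 (M11P11.p0 (M11P11.p2 (M11P11.p0 (M11P11.p1 (M11P11.p0 (M11P11.p1 (M11P11.p0 (M11P11.p1 (M11P11.p0 (M11P11.p0 (M11P11.p1 (M11P11.p0 i))))))))))))))))))))))))))))))), fun _ => rfl⟩, ⟨[0, 1, 0, 1, 0, 2, 0, 2, 1, 0, 2, 0, 2, 0, 2, 0, 1, 0, 2, 0, 2, 0, 1, 0, 0, 1, 0, 0, 1, 0, 1, 0, 1, 0, 2, 0, 1, 0], (fun i => (M11P11.p0 (M11P11.p1 (M11P11.p0 (M11P11.p2 (M11P11.p0 (M11P11.p1 (M11P11.p0 (M11P11.p1 (M11P11.p0 (M11P11.p1 (M11P11.p0 (M11P11.p0 (M11P11.p1 (M11P11.p0 (M11P11.p0 (M11P11.p1 (M11P11.p0 (M11P11.p2 (M11P11.p0 (M11P11.p2 (M11P11.p0 (M11P11.p1 (M11P11.p0 (M11P11.p2 (M11P11.p0 (M11P11.p2 (M11P11.p0 (M11P11.p2 (M11P11.p0 (M11P11.p1 (M11P11.p2 (M11P11.p0 (M11P11.p2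 (M11P11.p0 (M11P11.p1 (M11P11.p0 (M11P11.p1 (M11P11.p0 i))))))))))))))))))))))))))))))))))))))), fun _ => rfl⟩, ⟨[0, 2, 0, 1, 0, 2, 0, 2, 0, 2, 0, 0, 2, 0, 0, 2, 0, 1, 0, 1, 0, 2, 0, 1, 0, 1, 0, 1, 0, 2, 1, 0, 1, 0, 2, 0, 2, 0], (fun i => (M11P11.p0 (M11P11.p2 (M11P11.p0 (M11P11.p2 (M11P11.p0 (M11P11.p1 (M11P11.p0 (M11P11.p1 (M11P11.p2 (M11P11.p0 (M11P11.p1 (M11P11.p0 (M11P11.p1 (M11P11.p0 (M11P11.p1 (M11P11.p0 (M11P11.p2 (M11P11.p0 (M11P11.p1 (M11P11.p0 (M11P11.p1 (M11P11.p0 (M11P11.p2 (M11P11.p0 (M11P11.p0 (M11P11.p2 (M11P11.p0 (M11P11.p0 (M11P11.p2 (M11P11.p0 (M11P11.p2 (M11P11.p0 (M11P11.p2 (M11P11.p0 (M11P11.p1 (M11P11.p0 (M11P11.p2 (M11P11.p0 i))))))))))))))))))))))))))))))))))))))), fun _ => rfl⟩]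
noncomputable def fq2 (j : Nat) : Bool := reachChk ot2 4 2 sl2 j
def fm2 (j : Nat) : Bool := markF ot2 4 j
noncomputable def tR3 : Nat := 0x19993f
def ot3 (i : Nat) : Nat := Nat.land (Nat.shiftRight tR3 (Nat.mul i 2)) 3
def sl3 : List (PLeaf M11P11.pt) := [⟨[1, 0, 2, 0, 2, 0, 2, 0, 1, 0, 2, 0, 2, 0, 1, 0, 0, 2, 0, 1, 0, 2, 0, 2, 0, 2, 0, 0, 2, 0], (fun i => (M11P11.p0 (M11P11.p2 (M11P11.p0 (M11P11.p0 (M11P11.p2 (M11P11.p0 (M11P11.p2 (M11P11.p0 (M11P11.p2 (M11P11.p0 (M11P11.p1 (M11P11.p0 (M11P11.p2 (M11P11.p0 (M11P11.p0 (M11P11.p1 (M11P11.p0 (M11P11.p2 (M11P11.p0 (M11P11.p2 (M11P11.p0 (M11P11.p1 (M11P11.p0 (M11P11.p2 (M11P11.p0 (M11P11.p2 (M11P11.p0 (M11P11.p2 (M11P11.p0 (M11P11.p1 i))))))))))))))))))))))))))))))), fun _ => rfl⟩, ⟨[0, 1, 0, 0, 1, 0,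 1, 0, 1, 0, 2, 0, 1, 0, 0, 2, 0, 1, 0, 1, 0, 2, 0, 1, 0, 1, 0, 1, 0, 2], (fun i => (M11P11.p2 (M11P11.p0 (M11P11.p1 (M11P11.p0 (M11P11.p1 (M11P11.p0 (M11P11.p1 (M11P11.p0 (M11P11.p2 (M11P11.p0 (M11P11.p1 (M11P11.p0 (M11P11.p1 (M11P11.p0 (M11P11.p2 (M11P11.p0 (M11P11.p0 (M11P11.p1 (M11P11.p0 (M11P11.p2 (M11P11.p0 (M11P11.p1 (M11P11.p0 (M11P11.p1 (M11P11.p0 (M11P11.p1 (M11P11.p0 (M11P11.p0 (M11P11.p1 (M11P11.p0 i))))))))))))))))))))))))))))))), fun _ => rfl⟩, ⟨[0, 1, 0, 1, 0, 2, 0, 2, 1, 0, 2, 0, 2, 0, 2, 0, 1, 0, 2, 0, 2, 0, 1, 0, 0, 1, 0, 0, 1, 0, 1, 0, 1, 0, 2, 0, 1, 0], (fun i => (M11P11.p0 (M11P11.p1 (M11P11.p0 (M11P11.p2 (M11P11.p0 (M11P11.p1 (M11P11.p0 (M11P11.p1 (M11P11.p0 (M11P11.p1 (M11P11.p0 (M11P11.p0 (M11P11.p1 (M11P11.p0 (M11P11.p0 (M11P11.p1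 (M11P11.p0 (M11P11.p2 (M11P11.p0 (M11P11.p2 (M11P11.p0 (M11P11.p1 (M11P11.p0 (M11P11.p2 (M11P11.p0 (M11P11.p2 (M11P11.p0 (M11P11.p2 (M11P11.p0 (M11P11.p1 (M11P11.p2 (M11P11.p0 (M11P11.p2 (M11P11.p0 (M11P11.p1 (M11P11.p0 (M11P11.p1 (M11P11.p0 i))))))))))))))))))))))))))))))))))))))), fun _ => rfl⟩, ⟨[0, 2, 0, 1, 0, 2, 0, 2, 0, 2, 0, 0, 2, 0, 0, 2, 0, 1, 0, 1, 0, 2, 0, 1, 0, 1, 0, 1, 0, 2, 1, 0, 1, 0, 2, 0, 2, 0], (fun i => (M11P11.p0 (M11P11.p2 (M11P11.p0 (M11P11.p2 (M11P11.p0 (M11P11.p1 (M11P11.p0 (M11P11.p1 (M11P11.p2 (M11P11.p0 (M11P11.p1 (M11P11.p0 (M11P11.p1 (M11P11.p0 (M11P11.p1 (M11P11.p0 (M11P11.p2 (M11P11.p0 (M11P11.p1 (M11P11.p0 (M11P11.p1 (M11P11.p0 (M11P11.p2 (M11P11.p0 (M11P11.p0 (M11P11.p2 (M11P11.p0 (M11P11.p0 (M11P11.p2 (M11P11.p0 (M11P11.p2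 (M11P11.p0 (M11P11.p2 (M11P11.p0 (M11P11.p1 (M11P11.p0 (M11P11.p2 (M11P11.p0 i))))))))))))))))))))))))))))))))))))))), fun _ => rfl⟩]
noncomputable def fq3 (j : Nat) : Bool := reachChk ot3 3 3 sl3 j
def fm3 (j : Nat) : Bool := markF ot3 3 j
def yl0 : PLeaf M11P11.pt := ⟨[0, 1, 0, 1, 0, 1, 0, 1, 0, 1, 0, 1, 0, 1, 0, 1, 0, 1, 0, 1, 0, 1], (fun i => (M11P11.p1 (M11P11.p0 (M11P11.p1 (M11P11.p0 (M11P11.p1 (M11P11.p0 (M11P11.p1 (M11P11.p0 (M11P11.p1 (M11P11.p0 (M11P11.p1 (M11P11.p0 (M11P11.p1 (M11P11.p0 (M11P11.p1 (M11P11.p0 (M11P11.p1 (M11P11.p0 (M11P11.p1 (M11P11.p0 (M11P11.p1 (M11P11.p0 i))))))))))))))))))))))), fun _ => rfl⟩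
noncomputable def fy0 (i : Nat) : Bool := fixAll [yl0] i

end

end Cfsg.Agent.Lib.Helper35.M11POrd.X0
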